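import Cfsg.Agent.H0.TC
set_option maxRecDepth 100000
namespace H0.TCHSp0
open H0
noncomputable def r0 : TC.WTr := (.node (.node (.node (.node (.node (.node (.leaf [0] 0 0 false) (.leaf [5, 11, 6, 11, 5, 6, 3] 40 3 false)) (.leaf [3, 11, 6, 0, 7, 4, 0, 4, 0, 3, 4] 139 2 true)) (.node (.node (.leaf [7, 0, 9, 11, 4, 7, 9, 10, 4, 0, 5, 0] 156 3 false) (.leaf [9, 11, 9, 10, 11] 18 3 false)) (.leaf [3, 6, 3, 6, 3, 6, 3] 58 1 false))) (.node (.node (.node (.leaf [6, 0, 8, 11, 3, 7, 9, 10, 0, 1, 5] 119 3 false) (.leaf [2, 11, 5, 6, 2, 0, 9, 8, 4, 6, 4] 120 11 false)) (.leaf [10, 8, 3, 8, 6, 8, 8, 5, 3] 65 2 false)) (.node (.node (.leaf [6, 5, 10, 9, 4, 8, 9, 8, 10] 63 0 false) (.leaf [0, 7, 2, 4, 7, 1, 6, 4] 142 8 false)) (.leaf [9, 6, 10, 3, 8, 9, 3, 4] 45 5 false)))) (.node (.node (.node (.node (.leaf [2, 0, 8, 9, 0, 11, 3, 4] 105 3 true)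 (.leaf [0, 2, 3, 9, 11, 6, 11, 9, 3, 1, 0] 110 2 false)) (.leaf [3, 11, 9, 4, 3, 6, 8] 56 4 false)) (.node (.node (.leaf [4, 8, 6, 10, 4, 8, 1, 4, 4] 82 9 true) (.leaf [1, 3, 9, 0, 8, 0, 5, 3, 9] 143 9 false)) (.leaf [6] 6 0 false))) (.node (.node (.node (.leaf [3, 9, 0, 8, 0, 5, 3, 9, 11] 143 0 false) (.leaf [8, 4, 10, 4, 1, 4, 9, 0, 1, 5] 92 1 true)) (.leaf [4] 4 1 false)) (.node (.leaf [11, 4, 10, 9, 3, 1, 3, 7, 11, 0] 89 5 false) (.leaf [7] 7 1 false))))) (.node (.node (.node (.node (.node (.leaf [2, 0, 1, 0, 2, 0, 1, 0, 2, 0, 1, 0, 2, 0, 1] 77 2 false) (.leaf [6, 11, 9, 7, 11, 7, 11] 30 4 false)) (.leaf [8, 3, 2, 5, 10, 5, 2, 11, 6, 4, 8] 104 9 false)) (.node (.node (.leaf [10, 1, 10, 11, 7, 7, 9] 80 0 false) (.leaf [10] 10 0 false)) (.leaf [4, 10, 5, 6, 0, 4, 3, 5, 0] 87 5 false))) (.node (.node (.node (.leaf [10, 5, 11, 3, 9,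 5, 1, 11, 3, 4] 95 4 false) (.leaf [11, 6, 7, 6, 11, 7, 6] 31 6 false)) (.leaf [6, 8, 3, 5, 6, 8, 3] 55 3 true)) (.node (.leaf [8, 3, 5, 6, 3, 6, 9, 6] 60 0 false) (.leaf [11, 7, 11, 8, 6, 11, 9] 30 0 false)))) (.node (.node (.node (.node (.leaf [5, 7, 2, 0, 1, 11, 7, 4, 7, 5] 128 0 false) (.leaf [4, 6, 5, 9, 3] 38 3 false)) (.leaf [8, 10, 7, 4, 11, 10, 11] 39 4 false)) (.node (.node (.leaf [1] 1 1 false) (.leaf [3, 5, 9, 8, 10, 7, 7, 6, 4, 4] 52 2 false)) (.leaf [7, 7, 7, 7, 7] 20 0 false))) (.node (.node (.node (.leaf [2] 1 0 false) (.leaf [6, 7, 7, 6, 8, 8, 6] 22 7 false)) (.leaf [11, 10, 8, 3, 9, 3, 5, 3] 44 0 true)) (.node (.leaf [5] 4 0 false) (.leaf [6, 7, 6, 9, 6] 21 1 false))))))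
noncomputable def r1 : TC.WTr := (.node (.node (.node (.node (.node (.node (.leaf [1, 0, 5, 3, 11, 0, 9, 7] 105 3 false) (.leaf [6, 5, 11, 6, 11, 3, 7, 3] 59 3 false)) (.leaf [6, 7, 10, 8, 8, 3, 6, 3, 10, 8] 70 10 true)) (.node (.node (.leaf [4, 8, 10, 4, 8, 1, 6, 11, 6] 88 9 true) (.leaf [3, 6, 5, 10, 9, 4, 8, 9, 8] 63 9 false)) (.leaf [0, 11, 3, 4, 7, 4, 2, 0, 2, 2] 127 4 false))) (.node (.node (.node (.leaf [8, 8, 5, 1, 11, 5, 9, 8, 6] 86 0 false) (.leaf [5, 0, 3, 11, 2, 8, 0, 5, 11, 6] 130 3 true)) (.leaf [8, 9, 7, 4, 7, 7, 7] 41 3 true)) (.node (.node (.leaf [8, 5, 11, 6, 11, 5, 6] 40 2 false) (.leaf [3, 4, 0, 2, 0, 8, 9, 0] 105 0 true)) (.leaf [10, 5, 7, 11, 3, 7, 5] 57 5 true)))) (.node (.node (.node (.node (.leaf [2, 5, 10, 4, 6, 11, 8, 0, 1, 8, 2] 118 10 true) (.leaf [3, 2, 11, 9, 3, 4, 0, 7, 0] 143 7 true)) (.leaf [5] 4 0 false))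 (.node (.node (.leaf [1] 1 1 false) (.leaf [1, 6, 7, 3, 9, 8, 3, 0, 11, 5] 90 3 false)) (.leaf [0, 1, 3, 5, 9, 11, 4, 10, 11, 2, 5] 101 9 true))) (.node (.node (.node (.leaf [8, 3, 6, 1, 6, 4, 6, 10, 3, 9] 94 6 true) (.leaf [5, 11, 3, 0, 11, 8, 3, 2, 3, 9] 89 2 true)) (.leaf [6] 6 0 false)) (.node (.leaf [3] 3 0 false) (.leaf [10, 7, 10, 9, 10] 27 0 false))))) (.node (.node (.node (.node (.node (.leaf [1, 6, 8, 2, 2, 5, 9, 8, 8, 8] 97 0 false) (.leaf [7] 7 1 false)) (.leaf [0, 2, 0, 8, 9, 0, 11, 3] 105 2 true)) (.node (.node (.leaf [10, 4, 3, 7, 10, 2, 3, 7, 5] 84 9 true) (.leaf [7, 2, 3, 6, 5, 10, 5, 3, 0, 2, 2] 112 3 false)) (.leaf [6] 6 0 false))) (.node (.node (.node (.leaf [11, 3, 0, 4, 9, 6, 11, 4, 0, 7] 130 2 false) (.leaf [10] 10 0 false)) (.leaf [4] 4 1 false)) (.node (.leaf [8, 9, 3, 4, 7, 9, 6, 10] 45 0 false) (.leaf [8] 7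 0 false)))) (.node (.node (.node (.node (.leaf [1, 0, 1, 0, 1, 0, 1, 0, 3, 1] 74 2 true) (.leaf [4, 9, 0, 3, 4, 11, 1, 0, 3, 11, 4, 6] 125 4 true)) (.leaf [5, 5, 5] 33 0 true)) (.node (.node (.leaf [5, 10, 1, 4, 8, 3, 1, 10, 8] 84 7 false) (.leaf [3, 7, 5, 7, 10, 5, 7] 57 1 true)) (.leaf [10, 7, 6, 7, 9, 11, 6] 28 3 true))) (.node (.node (.node (.leaf [1] 1 1 false) (.leaf [8, 3, 8, 6, 8, 8, 5, 3, 5] 65 3 false)) (.leaf [1, 1, 10, 2, 2, 6, 5, 6, 4] 85 9 false)) (.node (.leaf [6, 10, 3, 9, 1, 8, 3, 6, 1, 6] 94 1 true) (.leaf [5, 8, 11, 2, 0, 1, 8, 4, 0, 4] 128 1 true))))))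
noncomputable def r2 : TC.WTr := (.node (.node (.node (.node (.node (.node (.leaf [5, 3, 9, 11, 1, 3, 9, 0, 8] 143 5 false) (.leaf [9, 7, 5, 9, 7, 7, 11, 6, 4] 51 1 false)) (.leaf [3, 5, 6, 4, 3, 5, 3] 34 4 false)) (.node (.node (.leaf [0, 2, 2, 6, 0, 11, 3, 4, 7, 4] 127 0 false) (.leaf [5, 10, 2, 0, 5, 10, 6, 11, 0, 3] 133 6 true)) (.leaf [11, 2, 8, 2, 8, 8, 3, 7, 9, 11, 0] 144 7 true))) (.node (.node (.node (.leaf [7, 0, 7, 10, 9, 8, 3, 8, 0, 3, 11] 138 9 true) (.leaf [2, 3, 9, 8, 0, 3, 4, 7, 9, 8, 5] 100 6 true)) (.leaf [11, 5, 1, 1, 3, 5, 8, 8, 3, 8, 0] 148 7 true)) (.node (.node (.leaf [5, 3, 4, 3, 5, 6, 4] 34 1 false) (.leaf [9, 4, 3, 6, 8, 4, 3] 56 6 false)) (.leaf [6, 11, 10, 7, 9, 7, 9] 29 4 false)))) (.node (.node (.node (.node (.leaf [5, 0, 2, 7, 0, 9, 11, 4, 7, 9, 10, 4] 156 0 false) (.leaf [10, 8, 10, 7, 10] 27 4 false))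 (.leaf [5] 4 0 false)) (.node (.node (.leaf [2, 5, 9, 8, 8, 8, 0, 1, 6, 8] 97 4 false) (.leaf [3, 4, 6, 8, 8, 9, 11, 3, 4] 49 7 true)) (.leaf [8] 7 0 false))) (.node (.node (.node (.leaf [6, 0, 3, 0, 4, 4, 6, 10, 11, 4] 91 6 true) (.leaf [8, 1, 7, 6, 7, 5, 7, 0, 4, 4] 129 3 false)) (.leaf [4] 4 1 false)) (.node (.leaf [3] 3 0 false) (.leaf [4, 8, 3, 2, 5, 10, 5, 2, 11, 6, 4] 104 8 false))))) (.node (.node (.node (.node (.node (.leaf [7, 1, 11, 3, 0, 4, 9, 6, 11, 4] 130 0 false) (.leaf [7] 7 1 false)) (.leaf [3, 7, 10, 2, 3, 7, 5, 2, 10] 84 1 true)) (.node (.node (.leaf [7, 11, 5, 1, 9, 3, 11, 5, 9, 7, 0] 115 1 false) (.leaf [11] 11 0 false)) (.leaf [7, 10, 7, 6, 7, 9, 11] 28 2 true))) (.node (.node (.node (.leaf [9, 4, 7, 9, 8, 5, 3, 0, 7, 9, 3] 100 4 false) (.leaf [4, 11, 2, 4, 7, 7, 2, 6, 7] 86 2 true)) (.leaf [8, 10, 7, 4, 9, 10,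 9] 42 4 false)) (.node (.leaf [9, 7, 3, 10, 6, 9, 8, 5] 45 5 true) (.leaf [6, 2, 0, 7, 7, 7, 9, 4, 1, 1] 97 7 true)))) (.node (.node (.node (.node (.leaf [10, 3, 10, 6, 7, 1, 1, 8, 1, 4] 132 5 false) (.leaf [8, 8, 8, 0, 1, 6, 8, 2, 2, 5] 97 7 false)) (.leaf [0, 1, 1, 0, 1, 0, 2, 0, 2, 0, 2, 2] 75 12 false)) (.node (.node (.leaf [3] 3 0 false) (.leaf [1, 0, 3, 11, 4, 6, 9, 4, 9, 0, 3, 4] 125 10 true)) (.leaf [3, 4, 3, 0, 4, 2, 4, 6, 0, 6, 3] 141 8 false))) (.node (.node (.node (.leaf [2] 1 0 false) (.leaf [3, 10, 6, 7, 1, 1, 8, 1, 4, 0] 132 6 false)) (.leaf [1, 3, 0, 11, 4, 11, 6, 5, 0, 7, 5] 151 3 false)) (.node (.leaf [10, 8, 4, 8, 3, 11, 8] 57 0 false) (.leaf [6, 11, 9, 8, 6, 8, 10] 28 4 false))))))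
noncomputable def r3 : TC.WTr := (.node (.node (.node (.node (.node (.node (.leaf [11, 9, 8, 3, 7, 7, 1, 7, 1, 11, 6] 144 5 false) (.leaf [10, 11, 6, 8, 9, 8, 9] 29 7 true)) (.leaf [10, 11, 7, 0, 8, 11, 10, 5, 0] 126 6 false)) (.node (.node (.leaf [6, 9, 6, 3, 11, 6, 0, 3, 9] 81 3 false) (.leaf [10] 10 0 false)) (.leaf [4, 3, 5, 3, 4, 3, 5] 34 7 false))) (.node (.node (.node (.leaf [4, 9, 0, 1, 5, 10, 8, 4, 10, 4] 92 6 true) (.leaf [8, 3, 10, 3, 9, 5, 10, 11] 43 7 false)) (.leaf [11, 6, 9, 5, 0, 3, 11, 2, 8, 0] 130 0 true)) (.node (.node (.leaf [4, 11, 3, 4, 6, 8, 8, 9, 11] 49 5 true) (.leaf [11] 11 0 false)) (.leaf [1, 6, 4, 11, 0, 7, 2, 4] 142 4 false)))) (.node (.node (.node (.node (.leaf [3, 9, 2, 6, 9, 6, 3, 11, 6] 81 0 false) (.leaf [3, 4, 0, 7, 6, 5, 9, 4, 0, 7, 5] 153 2 true)) (.leaf [4] 4 1 false)) (.node (.node (.leaf [1] 1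 1 false) (.leaf [10, 7, 9, 7, 9, 7, 6] 29 6 false)) (.leaf [2, 2, 8, 6, 10, 3, 10, 0, 5, 2] 132 8 true))) (.node (.node (.node (.leaf [2] 1 0 false) (.leaf [4, 9, 3, 10, 3, 7, 9, 11] 43 3 true)) (.leaf [7, 6, 7, 6, 7, 6, 7] 24 0 false)) (.node (.leaf [3] 3 0 false) (.leaf [11, 6, 8, 6, 11, 9, 6] 31 3 true))))) (.node (.node (.node (.node (.node (.leaf [3, 4, 7, 3, 4, 7, 0, 4, 9, 7] 93 10 true) (.leaf [9] 9 0 false)) (.leaf [3, 5, 3, 4, 3, 5, 6] 34 0 false)) (.node (.node (.leaf [7, 5, 10, 6, 7, 5, 1, 5, 5] 82 3 false) (.leaf [7, 0, 8, 11, 10, 5, 0, 4, 10] 126 8 false)) (.leaf [6] 6 0 false))) (.node (.node (.node (.leaf [8, 0, 11, 5, 6, 2, 8, 5] 142 6 true) (.leaf [2, 2, 6, 5, 6, 4, 6, 1, 1] 85 2 false)) (.leaf [4] 4 1 false)) (.node (.leaf [7, 11, 0, 3, 11, 4, 10, 9, 3, 1] 89 1 false) (.leaf [8] 7 0 false)))) (.node (.node (.node (.node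 (.leaf [2] 1 0 false) (.leaf [6, 3, 8, 3, 5, 6, 3, 6] 60 7 false)) (.leaf [9, 7, 7, 11, 6, 4, 8, 9, 7] 51 4 false)) (.node (.node (.leaf [5, 6, 8, 3, 5, 6, 8] 55 2 true) (.leaf [4, 11, 0, 3, 7, 9, 3, 8, 6, 2] 90 7 true)) (.leaf [3, 8, 6, 5, 11, 6, 11, 3] 59 1 false))) (.node (.node (.node (.leaf [0, 2, 5, 10, 4, 6, 11, 8, 0, 1, 8] 118 9 true) (.leaf [2, 3, 7, 5, 2, 10, 4, 3, 7] 84 4 true)) (.leaf [7, 3, 8, 3, 11, 6, 11, 4] 59 4 true)) (.node (.leaf [11, 0, 2, 0, 10, 0, 2, 0, 8, 8] 106 9 false) (.leaf [0, 11, 5, 6, 2, 8, 5, 1] 142 7 true))))))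
noncomputable def r4 : TC.WTr := (.node (.node (.node (.node (.node (.node (.leaf [11, 0, 8, 8, 3, 11, 10, 3, 2, 4] 96 2 false) (.leaf [3, 10, 3, 0, 11, 3, 6, 9, 7, 11, 2] 137 7 true)) (.leaf [2, 7, 0, 9, 6, 0, 4, 7, 6, 11, 8] 146 5 true)) (.node (.node (.leaf [8, 3, 0, 4, 6, 9, 11, 4, 0, 5, 8] 149 8 true) (.leaf [3, 8, 9, 3, 4, 7, 9, 6] 45 8 false)) (.leaf [3, 7, 4, 3, 9, 10, 8, 3, 4] 66 2 false))) (.node (.node (.node (.leaf [1, 0, 3, 4, 10, 4, 6, 3, 1, 8, 11] 112 9 true) (.leaf [8, 4, 6, 4, 9, 2, 11, 5, 6, 2, 0] 120 6 false)) (.leaf [1, 3, 10, 11, 3, 7, 7, 0, 11, 0] 96 9 true)) (.node (.node (.leaf [8, 2, 3, 7, 7, 3, 5, 11, 0, 5, 6] 135 9 true) (.leaf [0, 3, 2, 6, 4, 8, 0, 4, 6, 11, 5] 151 4 true)) (.leaf [6, 4, 3, 7, 6, 4, 3] 55 2 false)))) (.node (.node (.node (.node (.leaf [5, 2, 0, 1, 4, 0, 11, 6, 10, 8] 134 0 false) (.leaf [5,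 2, 5, 10, 5, 7, 10, 4, 2, 0] 92 2 false)) (.leaf [5] 4 0 false)) (.node (.node (.leaf [3, 9, 10, 5, 11, 3, 0, 11, 8, 3] 89 10 true) (.leaf [3, 7, 9, 10, 0, 1, 5, 1, 6, 0, 8] 119 7 false)) (.leaf [6] 6 0 false))) (.node (.node (.node (.leaf [10, 11, 7, 7, 9, 2, 10] 80 2 false) (.leaf [11, 1, 0, 3, 9, 10, 9, 3, 0, 2, 11] 124 3 false)) (.leaf [4] 4 1 false)) (.node (.leaf [6, 11, 10, 8, 3, 9, 3, 5] 44 8 true) (.leaf [9, 0, 11, 3, 4, 0, 2, 0] 105 6 true))))) (.node (.node (.node (.node (.node (.leaf [5, 6, 0, 4, 11, 9, 8, 3, 2, 8] 131 2 false) (.leaf [7] 7 1 false)) (.leaf [10, 8, 1, 7, 6, 7, 5, 7, 0, 4] 129 2 false)) (.node (.node (.leaf [5, 8, 6, 5, 0, 5, 6, 5, 8, 9, 8] 136 0 false) (.leaf [10] 10 0 false)) (.leaf [8, 4, 3, 11, 9, 4, 3] 56 2 false))) (.node (.node (.node (.leaf [0, 7, 10, 7, 9, 5, 9, 1, 11, 2, 11] 117 4 false) (.leaf [8,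 8, 11, 10, 2, 10, 1] 80 0 true)) (.leaf [8, 11, 7, 4, 6, 9, 8, 11, 9] 47 5 true)) (.node (.leaf [11, 8, 4, 10, 8, 4, 8] 57 5 false) (.leaf [7, 7, 9, 4, 1, 1, 7, 6, 2, 0] 97 0 true)))) (.node (.node (.node (.node (.leaf [6, 10, 5, 2, 0, 11, 5, 3, 10, 4, 9] 116 0 false) (.leaf [6, 10, 6, 5, 7, 6, 8, 5, 7] 50 6 false)) (.leaf [7, 2, 10, 6, 7, 3, 9, 6, 5, 0, 5, 1] 155 3 false)) (.node (.node (.leaf [1] 1 1 false) (.leaf [7, 7, 6, 8, 8, 8, 6, 8, 8] 23 0 true)) (.leaf [6, 7, 6, 7, 6, 7, 6] 24 1 false))) (.node (.node (.node (.leaf [2] 1 0 false) (.leaf [11, 7, 0, 8, 11, 10, 5, 0, 4] 126 7 false)) (.leaf [9, 5, 0, 3, 11, 2, 8, 0, 5, 11] 130 2 true)) (.node (.leaf [11, 0, 3, 7, 9, 3, 8, 6, 2, 11] 90 8 true) (.leaf [0, 3, 7, 9, 8, 3, 0, 7, 4, 3, 5] 152 11 false))))))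
noncomputable def r5 : TC.WTr := (.node (.node (.node (.node (.node (.node (.leaf [8, 1, 5, 7, 11, 6, 8, 5, 0, 6, 9] 146 3 false) (.leaf [4, 7, 6, 8, 4, 6, 10, 6, 9] 50 4 true)) (.leaf [3, 9, 3, 7, 10, 11, 6, 3] 44 1 false)) (.node (.node (.leaf [4, 8, 5, 5, 3, 4, 1, 10, 7] 83 3 false) (.leaf [4, 3, 7, 10, 2, 3, 7, 5, 2] 84 0 true)) (.leaf [11, 10, 6, 5, 7, 3, 10, 5, 10] 48 6 false))) (.node (.node (.node (.leaf [11, 9, 2, 0, 4, 8, 9, 8, 4, 10, 4] 103 0 false) (.leaf [7, 0, 3, 4, 7, 3, 4, 7, 0, 4] 93 8 true)) (.leaf [9, 8, 8, 8, 0, 1, 6, 8, 2, 2] 97 6 false)) (.node (.node (.leaf [5, 11, 4, 3, 9, 10, 9, 8, 6] 46 0 false) (.leaf [6, 11, 4, 7, 3, 6, 4] 40 0 true)) (.leaf [9, 7, 6, 11, 10, 7, 9] 29 2 false)))) (.node (.node (.node (.node (.leaf [4, 4, 6, 10, 11, 4, 1, 6, 0, 3] 91 10 true) (.leaf [8, 6, 8, 10, 8, 6, 11] 28 7 false)) (.leaf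 [5] 4 0 false)) (.node (.node (.leaf [1] 1 1 false) (.leaf [6, 0, 3, 9, 2, 6, 9, 6, 3] 81 8 false)) (.leaf [4, 9, 10, 9, 5, 8, 10] 42 7 false))) (.node (.node (.node (.leaf [2] 1 0 false) (.leaf [11, 6, 3, 4, 3, 9, 3, 7] 44 6 false)) (.leaf [11, 5, 6, 3, 8, 5, 11] 40 6 false)) (.node (.leaf [3] 3 0 false) (.leaf [6, 10, 3, 6, 11, 5, 3, 4, 10] 62 1 true))))) (.node (.node (.node (.node (.node (.leaf [3, 4, 10, 4, 6, 3, 1, 8, 11, 1, 1] 112 11 true) (.leaf [7] 7 1 false)) (.leaf [8, 6, 10, 4, 8, 1, 4, 4, 2] 82 0 true)) (.node (.node (.leaf [11, 4, 11, 0, 3, 7, 9, 3, 8, 6] 90 6 true) (.leaf [5, 1, 9, 3, 11, 5, 9, 7, 0, 2, 7] 115 3 false)) (.leaf [6] 6 0 false))) (.node (.node (.node (.leaf [0, 5, 3, 11, 0, 9, 7, 0] 105 4 false) (.leaf [9, 0, 4, 6, 11, 10, 9, 6, 4, 0, 11] 98 2 false)) (.leaf [4] 4 1 false)) (.node (.leaf [5, 11, 0, 5, 6,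 3, 8, 2, 3, 7, 7] 135 3 true) (.leaf [8] 7 0 false)))) (.node (.node (.node (.node (.leaf [2, 0, 8, 8, 4, 11, 0, 2, 0, 10] 106 4 false) (.leaf [7, 4, 7, 7, 7, 5, 8] 41 5 true)) (.leaf [0, 3, 0, 6, 2, 5, 11, 10, 6, 5] 91 10 false)) (.node (.node (.leaf [7, 2, 9, 3, 10, 6, 5, 6, 2, 6] 94 2 false) (.leaf [9, 11, 10, 9, 10] 19 2 false)) (.leaf [0, 4, 4, 10, 8, 1, 7, 6, 7, 5] 129 10 false))) (.node (.node (.node (.leaf [6, 2, 4, 9, 3, 7, 7, 11, 9, 2, 11] 108 9 true) (.leaf [3, 7, 9, 11, 10, 4, 9, 3] 43 7 true)) (.leaf [11, 9, 6, 8, 11, 6, 8] 31 7 true)) (.node (.leaf [8, 6, 5, 8, 3, 6, 7, 11, 8] 61 4 true) (.leaf [9, 7, 4, 8, 8, 8, 5] 41 1 false))))))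
noncomputable def r6 : TC.WTr := (.node (.node (.node (.node (.node (.node (.leaf [4, 10, 3, 6, 10, 3, 0, 1, 7, 2, 5] 121 5 false) (.leaf [3, 6, 1, 6, 4, 6, 10, 3, 9, 1] 94 7 true)) (.leaf [7, 3, 11, 6, 11, 10, 5, 9, 6] 64 3 false)) (.node (.node (.leaf [2, 4, 11, 4, 0, 7, 3, 7, 7, 4, 3] 148 0 false) (.leaf [11, 9, 8, 3, 10, 3, 9, 5] 43 5 false)) (.leaf [2, 4, 8, 10, 4, 8, 1, 6, 11] 88 8 true))) (.node (.node (.node (.leaf [0, 1, 5, 8, 5, 3, 11, 0, 6, 1] 127 8 true) (.leaf [4, 3, 7, 6, 10, 8, 9, 6, 4, 4] 53 2 false)) (.leaf [3, 9, 11, 1, 3, 9, 0, 8, 0] 143 6 false)) (.node (.node (.leaf [8, 6, 3, 10, 3, 0, 3, 10, 1, 7, 1, 4] 154 1 true) (.leaf [4, 3, 8, 8, 3, 1, 7, 3, 6, 4, 0] 135 6 false)) (.leaf [2, 4, 8, 5, 5, 3, 4, 1, 10] 83 2 false)))) (.node (.node (.node (.node (.leaf [1, 9, 11, 2, 5, 10, 5, 7, 9, 7, 5] 103 7 true) (.leaf [8,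 3, 0, 7, 4, 3, 5, 8, 0, 3, 7] 152 3 false)) (.leaf [5] 4 0 false)) (.node (.node (.leaf [1] 1 1 false) (.leaf [9, 8, 3, 2, 8, 0, 5, 6, 0, 4] 131 7 false)) (.leaf [5, 2, 10, 4, 3, 7, 10, 2, 3] 84 7 true))) (.node (.node (.node (.leaf [5, 10, 8, 4, 10, 4, 1, 4, 9, 0] 92 10 true) (.leaf [5, 6, 0, 4, 3, 5, 0, 6, 4] 87 7 false)) (.leaf [4] 4 1 false)) (.node (.leaf [3] 3 0 false) (.leaf [8, 8, 6, 8, 8, 11, 7, 7, 6] 23 4 true))))) (.node (.node (.node (.node (.node (.leaf [4, 3, 5, 0, 6, 4, 10, 5, 6] 87 0 false) (.leaf [7] 7 1 false)) (.leaf [0, 10, 3, 10, 6, 7, 1, 1, 8, 1] 132 4 false)) (.node (.node (.leaf [0, 1, 8, 4, 0, 4, 8, 5, 8, 11] 128 5 true) (.leaf [0, 2, 3, 11, 6, 11, 9, 7, 3, 1, 0] 107 2 false)) (.leaf [9, 6, 3, 11, 6, 0, 3, 9, 2] 81 4 false))) (.node (.node (.node (.leaf [3, 5, 9, 11, 4, 10, 11, 2, 5, 7, 0] 101 11 true) (.leaf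 [9] 9 0 false)) (.leaf [4] 4 1 false)) (.node (.leaf [4, 10, 8, 6, 10, 3, 6, 11, 5] 62 8 true) (.leaf [11, 8, 6, 11, 9, 7, 11] 30 2 false)))) (.node (.node (.node (.node (.leaf [11, 3, 4, 0, 2, 0, 8, 9] 105 8 true) (.leaf [8, 9, 8, 10, 11, 6, 8] 29 4 true)) (.leaf [1, 6, 11, 6, 2, 7, 5, 10, 7] 88 9 false)) (.node (.node (.leaf [5, 0, 6, 4, 10, 5, 6, 0, 4] 87 2 false) (.leaf [6, 11, 5, 6, 3, 8, 5] 40 5 false)) (.leaf [7, 5, 8, 9, 7, 4, 7] 41 1 true))) (.node (.node (.node (.leaf [2] 1 0 false) (.leaf [11, 10, 9, 11, 9] 18 1 false)) (.leaf [1, 6, 4, 6, 10, 3, 9, 1, 8, 3] 94 9 true)) (.node (.leaf [0, 11, 6, 10, 8, 0, 5, 2, 0, 1] 134 5 false) (.leaf [8, 9, 11, 3, 4, 11, 3, 4, 6] 49 1 true))))))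
noncomputable def r7 : TC.WTr := (.node (.node (.node (.node (.node (.node (.leaf [6, 0, 3, 8, 8, 3, 9, 8, 2, 8, 9] 140 3 false) (.leaf [8, 6, 10, 6, 7, 7, 6] 22 4 false)) (.leaf [8, 3, 1, 10, 8, 3, 5, 10, 1] 84 1 false)) (.node (.node (.leaf [9, 2, 0, 1, 0, 3, 7, 6, 8, 4, 4] 111 6 true) (.leaf [10] 10 0 false)) (.leaf [4, 11, 6, 11, 4, 7, 3] 40 6 true))) (.node (.node (.node (.leaf [6, 1, 11, 1, 9, 11, 8, 8, 3, 9, 5] 108 0 false) (.leaf [11, 6, 7, 10, 7, 6, 7] 28 0 true)) (.leaf [6, 4, 8, 8, 9, 8, 3, 8, 10] 68 3 false)) (.node (.node (.leaf [8, 6, 5, 11, 6, 11, 3, 7] 59 2 false) (.leaf [11] 11 0 false)) (.leaf [7, 7, 5, 8, 9, 7, 4] 41 0 true)))) (.node (.node (.node (.node (.leaf [8, 9, 0, 11, 3, 4, 0, 2] 105 5 true) (.leaf [10, 9, 8, 6, 3, 5, 11, 4, 3] 46 5 false)) (.leaf [3, 11, 0, 9, 7, 0, 1, 0] 105 6 false)) (.node (.node (.leaf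 [1] 1 1 false) (.leaf [9, 8, 6, 8, 10, 8, 6] 28 6 false)) (.leaf [10, 9, 8, 3, 8, 0, 3, 11, 1, 7, 0] 138 0 true))) (.node (.node (.node (.leaf [2] 1 0 false) (.leaf [11, 6, 11, 3, 8, 5, 6, 9, 4] 64 0 true)) (.leaf [8, 9, 8, 9, 8, 10, 11] 29 2 true)) (.node (.leaf [3] 3 0 false) (.leaf [11, 9, 5, 8, 11, 7, 4, 6, 9] 47 2 true))))) (.node (.node (.node (.node (.node (.leaf [6, 5, 1, 5, 0, 3, 5, 3, 8, 3, 6] 141 6 true) (.leaf [5, 0, 8, 5, 3, 8, 5, 3, 0, 8] 93 2 false)) (.leaf [4, 2, 4, 8, 6, 10, 4, 8, 1] 82 7 true)) (.node (.node (.leaf [5, 10, 5, 7, 10, 4, 2, 0, 9, 5] 92 4 false) (.leaf [7, 11, 8, 6, 11, 9, 7] 30 1 false)) (.leaf [6] 6 0 false))) (.node (.node (.node (.leaf [8, 10, 2, 5, 3, 4, 4, 7, 5] 83 6 true) (.leaf [5, 2, 11, 6, 4, 8, 4, 8, 3, 2, 5] 104 2 false)) (.leaf [4] 4 1 false)) (.node (.leaf [6, 4, 11, 6, 11, 4, 7] 40 5 true)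 (.leaf [8] 7 0 false)))) (.node (.node (.node (.node (.leaf [0, 3, 0, 2, 3] 79 3 false) (.leaf [11, 3, 5, 7, 6, 3, 5] 56 0 true)) (.leaf [1, 8, 0, 11, 5, 6, 2, 8] 142 5 true)) (.node (.node (.leaf [6, 9, 6, 3, 6, 4, 3, 7] 60 8 true) (.leaf [9, 11, 9, 11, 9, 11, 9] 14 1 false)) (.leaf [9, 2, 10, 1, 10, 11, 7] 80 6 false))) (.node (.node (.node (.leaf [8, 5, 1, 8, 0, 11, 5, 6] 142 3 true) (.leaf [7, 5, 1, 6, 11, 6, 2, 7, 5] 88 7 false)) (.leaf [7, 9, 11, 6, 7, 10, 7] 28 6 true)) (.node (.leaf [7, 1, 6, 4, 11, 0, 7, 2] 142 3 false) (.leaf [2, 8, 9, 0, 6, 0, 3, 8, 8, 3, 9] 140 11 false))))))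
noncomputable def r8 : TC.WTr := (.node (.node (.node (.node (.node (.node (.leaf [3, 0, 4, 4, 6, 10, 11, 4, 1, 6] 91 8 true) (.leaf [9, 8, 10, 3, 6, 5, 10, 9, 4] 63 6 false)) (.leaf [7, 5, 0, 5, 7, 2, 0, 1, 11, 7] 128 8 false)) (.node (.node (.leaf [0, 1, 11, 7, 4, 7, 5, 0, 5, 7] 128 3 false) (.leaf [9, 3, 1, 3, 7, 11, 0, 3, 11, 4] 89 8 false)) (.leaf [2, 4, 2, 0, 10, 9, 8, 3, 11, 7, 0] 119 7 true))) (.node (.node (.node (.leaf [9, 1, 5, 5, 7, 6, 8, 3, 0, 2, 0] 111 3 false) (.leaf [7, 11, 7, 11, 8, 6, 11] 30 7 false)) (.leaf [3, 4, 4, 7, 5, 1, 8, 10, 2] 83 0 true)) (.node (.node (.leaf [5, 8, 0, 3, 7, 9, 8, 3, 0, 7, 4] 152 9 false) (.leaf [10, 11, 5, 8, 10, 7, 4] 39 1 false)) (.leaf [2, 0, 1, 11, 7, 4, 7, 5, 0, 5] 128 2 false)))) (.node (.node (.node (.node (.leaf [9, 5, 10, 3, 4, 11, 0, 1, 4, 10, 6] 116 11 true) (.leaf [2, 0, 4, 8,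 9, 8, 4, 10, 4, 1, 11] 103 2 false)) (.leaf [10, 3, 8, 4, 6, 10, 11, 6, 10] 48 5 true)) (.node (.node (.leaf [11, 6, 4, 8, 4, 8, 3, 2, 5, 10, 5] 104 4 false) (.leaf [8, 4, 10, 8, 4, 8, 3] 57 6 false)) (.leaf [6] 6 0 false))) (.node (.node (.node (.leaf [10, 7, 2, 4, 8, 5, 5, 3, 4] 83 0 false) (.leaf [0, 2, 0, 8, 8, 4, 11, 0, 2, 0] 106 3 false)) (.leaf [4] 4 1 false)) (.node (.leaf [6, 9, 6, 9, 6, 3, 1, 0, 10, 0, 2] 109 5 false) (.leaf [2, 2, 5, 9, 8, 8, 8, 0, 1, 6] 97 3 false))))) (.node (.node (.node (.node (.node (.leaf [2, 3, 1, 0, 3] 79 0 false) (.leaf [7] 7 1 false)) (.leaf [10, 9, 3, 1, 3, 7, 11, 0, 3, 11] 89 7 false)) (.node (.node (.leaf [10, 1, 9, 8, 8, 11, 10] 80 5 true) (.leaf [10] 10 0 false)) (.leaf [5, 6, 4, 6, 1, 1, 10, 2, 2] 85 5 false))) (.node (.node (.node (.leaf [0, 7, 3, 4, 6, 11, 0, 2, 6, 2, 6] 123 5 false) (.leaf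 [10, 11, 10, 9, 11] 18 0 false)) (.leaf [11, 6, 11, 5, 6, 3, 8] 40 4 false)) (.node (.leaf [6, 8, 4, 3, 11, 9, 4] 56 1 false) (.leaf [5, 10, 6, 7, 5, 1, 5, 5, 2] 82 4 false)))) (.node (.node (.node (.node (.leaf [4, 8, 5, 8, 11, 2, 0, 1, 8, 4] 128 10 true) (.leaf [11, 10, 4, 9, 3, 10, 3, 7] 43 1 true)) (.leaf [8, 0, 6, 11, 3, 5, 5, 3, 0, 5, 0] 139 3 false)) (.node (.node (.leaf [1] 1 1 false) (.leaf [9, 10, 11, 10, 9] 18 5 false)) (.leaf [10, 6, 4, 1, 0, 2, 4, 1, 9, 5, 5] 102 8 false))) (.node (.node (.node (.leaf [2] 1 0 false) (.leaf [9, 10, 8, 10, 7] 27 3 false)) (.leaf [3, 4, 6, 9, 7, 10, 9, 6, 3, 8] 67 2 false)) (.node (.leaf [2, 4, 8, 6, 10, 4, 8, 1, 4] 82 8 true) (.leaf [8, 8, 5, 8, 9, 7, 4] 41 5 false))))))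
noncomputable def r9 : TC.WTr := (.node (.node (.node (.node (.node (.node (.leaf [7, 1, 3, 7, 9, 11, 5, 0, 6, 4] 131 8 true) (.leaf [3, 5, 6, 8, 3, 5, 6] 55 1 true)) (.leaf [7, 1, 9, 0, 8, 5, 6, 3, 7, 6, 0] 147 1 false)) (.node (.node (.leaf [3, 1, 0, 3, 0] 79 1 false) (.leaf [5, 7, 11, 3, 7, 5, 7] 57 6 true)) (.leaf [1, 0, 7, 3, 4, 6, 11, 0, 2, 6, 2] 123 4 false))) (.node (.node (.node (.leaf [6, 11, 6, 2, 7, 5, 10, 7, 5] 88 0 false) (.leaf [3, 0, 6, 11, 3, 6, 9, 6, 1] 81 7 true)) (.leaf [10, 9, 4, 8, 9, 8, 10, 3, 6] 63 2 false)) (.node (.node (.leaf [2, 6, 4, 8, 0, 4, 6, 11, 5, 11, 0] 151 6 true) (.leaf [8, 9, 11, 6, 7, 11, 8] 30 6 true)) (.leaf [3, 6, 4, 11, 6, 11, 4] 40 4 true)))) (.node (.node (.node (.node (.leaf [10, 0, 2, 0, 8, 8, 4, 11, 0, 2] 106 2 false) (.leaf [10, 9, 5, 8, 10, 7, 4] 42 1 false)) (.leaf [5] 4 0 false)) (.node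 (.node (.leaf [1] 1 1 false) (.leaf [6, 0, 7, 4, 0, 4, 0, 3, 4, 4, 3] 139 4 true)) (.leaf [4, 7, 7, 7, 5, 8, 9] 41 6 true))) (.node (.node (.node (.leaf [2] 1 0 false) (.leaf [7, 10, 9, 10, 8] 27 1 false)) (.leaf [3, 6, 4, 3, 7, 3, 6, 9] 60 2 true)) (.node (.leaf [3] 3 0 false) (.leaf [0, 2, 8, 4, 3, 4, 11, 3, 0, 6, 1] 145 3 false))))) (.node (.node (.node (.node (.node (.leaf [5, 6, 5, 8, 9, 8, 2, 5, 8, 6, 5] 136 5 false) (.leaf [7] 7 1 false)) (.leaf [7, 9, 6, 10, 3, 8, 9, 3] 45 4 false)) (.node (.node (.leaf [11, 3, 0, 7, 3, 7, 9, 10, 8, 0, 8] 138 2 false) (.leaf [8, 0, 8, 3, 6, 3, 4, 7, 0, 2, 4] 113 9 true)) (.leaf [6] 6 0 false))) (.node (.node (.node (.leaf [6, 7, 3, 9, 8, 3, 0, 11, 5, 11] 90 4 false) (.leaf [1, 10, 11, 7, 7, 9, 2] 80 1 false)) (.leaf [4] 4 1 false)) (.node (.leaf [5, 7, 6, 3, 5, 9, 11] 56 2 true) (.leaf [8] 7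 0 false)))) (.node (.node (.node (.node (.leaf [1, 0, 11, 5, 7, 7, 0, 1, 0, 10] 106 8 true) (.leaf [8, 11, 9, 5, 8, 11, 7, 4, 6] 47 1 true)) (.leaf [6, 5, 7, 9, 0, 1, 6, 4, 11, 1, 9] 120 1 true)) (.node (.node (.leaf [11, 2, 4, 9, 3, 11, 4, 10, 2, 5] 95 8 true) (.leaf [4, 3, 9, 10, 9, 8, 6, 3, 5] 46 2 false)) (.leaf [2, 4, 7, 1, 6, 4, 11, 0] 142 1 false))) (.node (.node (.node (.leaf [2, 2, 2, 2] 73 0 true) (.leaf [7, 7, 5, 9, 8, 0, 6, 3, 4, 1, 0] 122 6 false)) (.leaf [8, 3, 5, 6, 8, 3, 5] 55 0 true)) (.node (.leaf [11, 3, 4, 6, 8, 8, 9, 11, 3] 49 6 true) (.leaf [3, 11, 8, 4, 10, 8, 4] 57 4 false))))))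
noncomputable def r10 : TC.WTr := (.node (.node (.node (.node (.node (.node (.leaf [9, 7, 0, 1, 0, 5, 3, 11] 105 0 false) (.leaf [6, 8, 10, 8, 6, 11, 9] 28 0 false)) (.leaf [9, 6, 11, 4, 0, 7, 1, 11, 3, 0] 130 6 false)) (.node (.node (.leaf [11, 9, 3, 4, 0, 7, 0, 9, 3] 143 9 true) (.leaf [2, 5, 3, 11, 2, 4, 9, 3, 11, 4] 95 5 true)) (.leaf [9, 6, 8, 6, 7] 21 4 false))) (.node (.node (.node (.leaf [9, 0, 8, 5, 6, 3, 7, 6, 0, 4, 7] 147 3 false) (.leaf [8, 6, 1, 8, 8, 5, 1, 11, 5] 86 7 false)) (.leaf [6, 4, 3, 5, 3, 4, 3] 34 6 false)) (.node (.node (.leaf [7, 4, 3, 9, 10, 8, 3, 4, 6] 66 3 false) (.leaf [9, 3, 4, 0, 7, 0, 9, 3, 2] 143 0 true)) (.leaf [10, 9, 10, 8, 10] 27 2 false)))) (.node (.node (.node (.node (.leaf [3, 1, 0, 1, 0, 1, 0, 1, 0, 1] 74 10 true) (.leaf [7, 5, 9, 7, 7, 11, 6, 4, 8] 51 2 false)) (.leaf [5] 4 0 false)) (.node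 (.node (.leaf [1] 1 1 false) (.leaf [6, 8, 9, 8, 9, 8, 10] 29 1 true)) (.leaf [11, 0, 3, 11, 4, 10, 9, 3, 1, 3] 89 2 false))) (.node (.node (.node (.leaf [11, 5, 9, 8, 6, 1, 8, 8, 5] 86 4 false) (.leaf [9, 10, 11, 9, 11] 19 5 false)) (.leaf [4] 4 1 false)) (.node (.leaf [3] 3 0 false) (.leaf [6, 8, 6, 8, 6, 8, 6] 24 0 true))))) (.node (.node (.node (.node (.node (.leaf [3, 11, 2, 8, 0, 5, 11, 6, 9, 5] 130 5 true) (.leaf [7] 7 1 false)) (.leaf [11, 9, 8, 3, 2, 8, 0, 5, 6, 0] 131 6 false)) (.node (.node (.leaf [4, 7, 1, 6, 4, 11, 0, 7] 142 2 false) (.leaf [10, 9, 10, 11, 9] 19 4 false)) (.leaf [4, 11, 0, 7, 2, 4, 7, 1] 142 6 false))) (.node (.node (.node (.leaf [10, 2, 2, 6, 5, 6, 4, 6, 1] 85 1 false) (.leaf [9] 9 0 false)) (.leaf [4] 4 1 false)) (.node (.leaf [9, 2, 6, 9, 6, 3, 11, 6, 0] 81 1 false) (.leaf [9, 3, 8, 6, 2, 11, 4, 11, 0,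 3] 90 1 true)))) (.node (.node (.node (.node (.leaf [2, 0, 2, 0, 2, 0, 2, 3, 0, 2] 74 2 false) (.leaf [5, 9, 1, 11, 2, 11, 1, 0, 7, 10, 7] 117 9 false)) (.leaf [11, 6, 11, 3, 7, 3, 8, 6] 59 5 false)) (.node (.node (.leaf [1, 0, 3, 0, 2] 79 2 false) (.leaf [5, 3, 11, 9, 7, 7, 6, 5, 3] 49 2 false)) (.leaf [0, 3, 4, 7, 3, 4, 7, 0, 4, 9] 93 9 true))) (.node (.node (.node (.leaf [2] 1 0 false) (.leaf [6, 9, 8, 5, 3, 9, 7, 3] 45 0 true)) (.leaf [3, 10, 7, 9, 7, 5, 9, 10, 4] 63 8 true)) (.node (.leaf [4, 4, 4] 33 0 false) (.leaf [3, 8, 0, 5, 11, 5, 1, 1, 3, 5, 8] 148 3 true))))))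
noncomputable def r11 : TC.WTr := (.node (.node (.node (.node (.node (.node (.leaf [3, 11, 4, 10, 9, 3, 1, 3, 7, 11] 89 4 false) (.leaf [0, 5, 11, 6, 9, 5, 0, 3, 11, 2] 130 9 true)) (.leaf [4, 2, 9, 2, 0, 1, 0, 3, 7, 6, 8] 111 4 true)) (.node (.node (.leaf [0, 8, 4, 1, 11, 10, 5, 11, 9, 4, 3] 101 0 false) (.leaf [10] 10 0 false)) (.leaf [7, 7, 6, 8, 8, 6, 10] 22 0 false))) (.node (.node (.node (.leaf [5, 5, 2, 7, 5, 10, 6, 7, 5] 82 0 false) (.leaf [5, 10, 11, 9, 8, 3, 10, 3] 43 3 false)) (.leaf [8, 5, 3, 11, 0, 6, 1, 1, 0, 1] 127 0 true)) (.node (.node (.leaf [9, 11, 1, 3, 9, 0, 8, 0, 5] 143 7 false) (.leaf [11] 11 0 false)) (.leaf [6, 3, 5, 9, 11, 3, 5] 56 4 true)))) (.node (.node (.node (.node (.leaf [8, 11, 10, 5, 0, 4, 10, 11, 7] 126 0 false) (.leaf [6, 8, 6, 7, 6] 21 5 false)) (.leaf [3, 0, 9, 5, 9, 6, 5, 11, 3, 0, 2, 11] 125 3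 false)) (.node (.node (.leaf [1] 1 1 false) (.leaf [6, 5, 10, 4, 1, 0, 1, 7, 2, 0, 7] 118 7 false)) (.leaf [3, 10, 6, 9, 8, 5, 3, 9] 45 7 true))) (.node (.node (.node (.leaf [2] 1 0 false) (.leaf [7, 2, 4, 8, 5, 5, 3, 4, 1] 83 1 false)) (.leaf [10, 4, 8, 1, 4, 4, 2, 4, 8] 82 2 true)) (.node (.leaf [3] 3 0 false) (.leaf [3, 0, 11, 5, 11, 1, 6, 7, 3, 9] 90 9 false))))) (.node (.node (.node (.node (.node (.leaf [11, 5, 6, 2, 8, 5, 1, 8] 142 8 true) (.leaf [2, 6, 9, 6, 3, 11, 6, 0, 3] 81 2 false)) (.leaf [7, 3, 6, 4, 11, 6, 11] 40 3 true)) (.node (.node (.leaf [4, 7, 7, 2, 6, 7, 9, 4, 11] 86 5 true) (.leaf [7, 6, 9, 11, 6, 7, 6] 31 3 false)) (.leaf [6] 6 0 false))) (.node (.node (.node (.leaf [5, 5, 7, 6, 8, 3, 0, 2, 0, 1, 9] 111 5 false) (.leaf [2, 5, 3, 4, 4, 7, 5, 1, 8] 83 8 true)) (.leaf [4] 4 1 false)) (.node (.leaf [7, 6, 4, 3, 7,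 6, 4] 55 1 false) (.leaf [8] 7 0 false)))) (.node (.node (.node (.node (.leaf [3, 2, 5, 3, 5, 6, 3, 11, 4, 1, 11] 99 9 true) (.leaf [3, 7, 10, 7, 0, 3, 5, 2, 3, 0, 4] 114 1 true)) (.leaf [10, 11, 9, 8, 3, 10, 3, 9] 43 4 false)) (.node (.node (.leaf [7, 1, 11, 8, 9, 6, 3, 11, 0, 3, 10] 137 3 false) (.leaf [9, 7, 11, 7, 11, 8, 6] 30 6 false)) (.leaf [9, 6, 5, 8, 11, 7, 4, 9, 11] 47 7 false))) (.node (.node (.node (.leaf [6, 1, 0, 7, 3, 4, 6, 11, 0, 2, 6] 123 3 false) (.leaf [6, 7, 5, 1, 5, 5, 2, 7, 5] 82 6 false)) (.leaf [0, 6, 3, 7, 3, 4, 3, 0, 4, 2, 4] 141 4 false)) (.node (.leaf [8, 3, 11, 8, 4, 10, 8] 57 3 false) (.leaf [5, 6, 9, 4, 10, 11, 6, 11, 3] 64 5 true))))))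
noncomputable def r12 : TC.WTr := (.node (.node (.node (.node (.node (.node (.leaf [3, 0, 2, 3, 1] 79 4 false) (.leaf [6, 10, 4, 8, 1, 4, 4, 2, 4] 82 1 true)) (.leaf [8, 5, 5, 3, 4, 1, 10, 7, 2] 83 4 false)) (.node (.node (.leaf [8, 2, 8, 8, 3, 7, 9, 11, 0, 6, 11] 144 9 true) (.leaf [7, 6, 8, 10, 9, 6, 9] 32 2 false)) (.leaf [9, 8, 5, 3, 9, 7, 3, 10] 45 1 true))) (.node (.node (.node (.leaf [7, 1, 4, 3, 8, 6, 3, 10, 3, 0, 3, 10] 154 10 true) (.leaf [2, 11, 2, 6, 2, 4, 9, 3, 7, 7, 11] 108 6 true)) (.leaf [5, 3, 0, 5, 0, 5, 8, 0, 6, 11, 3] 139 9 false)) (.node (.node (.leaf [4, 3, 5, 6, 4, 3, 5] 34 3 false) (.leaf [7, 9, 6, 5, 8, 11, 7, 4, 9] 47 6 false)) (.leaf [5, 0, 5, 7, 2, 0, 1, 11, 7, 4] 128 9 false)))) (.node (.node (.node (.node (.leaf [1, 4, 10, 6, 0, 9, 5, 10, 3, 4, 11] 116 6 true) (.leaf [8, 0, 3, 4, 7, 9, 8, 5, 9, 2, 3] 100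 9 true)) (.leaf [5] 4 0 false)) (.node (.node (.leaf [5, 3, 4, 4, 7, 5, 1, 8, 10] 83 9 true) (.leaf [7, 2, 0, 6, 3, 11, 4, 10, 0, 7, 3] 150 3 false)) (.leaf [6] 6 0 false))) (.node (.node (.node (.leaf [4, 8, 3, 1, 10, 8, 3, 5, 10] 84 0 false) (.leaf [7, 4, 11, 10, 11, 5, 8] 39 6 false)) (.leaf [4] 4 1 false)) (.node (.leaf [7, 9, 11, 10, 4, 9, 3, 10] 43 8 true) (.leaf [6, 11, 9, 6, 8, 11, 6] 31 6 true))))) (.node (.node (.node (.node (.node (.leaf [4, 9, 7, 0, 3, 4, 7, 3, 4, 7] 93 6 true) (.leaf [7] 7 1 false)) (.leaf [9, 3, 11, 4, 10, 2, 5, 3, 11, 2] 95 0 true)) (.node (.node (.leaf [5, 11, 10, 6, 5, 5, 0, 3, 0, 6] 91 4 false) (.leaf [10] 10 0 false)) (.leaf [11, 3, 6, 9, 6, 1, 9, 3, 0] 81 0 true))) (.node (.node (.node (.leaf [6, 4, 11, 0, 7, 2, 4, 7] 142 5 false) (.leaf [7, 7, 11, 6, 4, 8, 9, 7, 5] 51 5 false)) (.leaf [10, 6, 11,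 10, 6, 5, 7, 3, 10] 48 4 false)) (.node (.leaf [8, 11, 9, 7, 9, 4, 4, 8, 10, 4] 71 10 true) (.leaf [6, 9, 11, 6, 7, 6, 11] 31 4 false)))) (.node (.node (.node (.node (.leaf [6, 11, 3, 6, 9, 6, 1, 9, 3] 81 9 true) (.leaf [3, 9, 4, 6, 5] 38 1 false)) (.leaf [1, 1, 3, 5, 8, 8, 3, 8, 0, 5, 11] 148 9 true)) (.node (.node (.leaf [1] 1 1 false) (.leaf [2, 5, 11, 3, 6, 4, 3, 4, 1, 3, 2] 99 3 false)) (.leaf [6, 4, 4, 11, 3, 5, 9, 8, 10, 7] 52 9 false))) (.node (.node (.node (.leaf [2] 1 0 false) (.leaf [6, 9, 8, 4, 7, 6, 8, 4, 6] 50 1 true)) (.leaf [5, 3, 11, 5, 3, 11, 9, 7, 7] 49 9 false)) (.node (.leaf [11, 1, 9, 5, 6, 5, 7, 9, 0, 1, 6] 120 9 true) (.leaf [10, 7, 9, 4, 3, 11, 5, 5, 6, 8] 52 2 true))))))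
noncomputable def r13 : TC.WTr := (.node (.node (.node (.node (.node (.node (.leaf [3, 4, 11, 1, 0, 3, 11, 4, 6, 9, 4, 9] 125 7 true) (.leaf [5, 1, 8, 0, 11, 5, 6, 2] 142 4 true)) (.leaf [6, 5, 9, 3, 9] 38 4 false)) (.node (.node (.leaf [3, 0, 2, 0, 2, 0, 2, 0, 2, 0] 74 9 false) (.leaf [10] 10 0 false)) (.leaf [0, 4, 3, 5, 0, 6, 4, 10, 5] 87 9 false))) (.node (.node (.node (.leaf [7, 1, 11, 6, 0, 11, 9, 8, 3, 7, 7] 144 0 false) (.leaf [3, 10, 3, 7, 9, 11, 10, 4] 43 5 true)) (.leaf [8, 9, 7, 4, 8, 8, 8] 41 0 false)) (.node (.node (.leaf [0, 8, 9, 5, 0, 8, 5, 3, 8, 5] 93 10 false) (.leaf [11] 11 0 false)) (.leaf [4, 3, 5, 8, 0, 3, 7, 9, 8, 3, 0] 152 7 false)))) (.node (.node (.node (.node (.leaf [7, 0, 9, 3, 2, 11, 9, 3, 4] 143 4 true) (.leaf [10, 7, 6, 8, 10, 9, 6] 32 1 false)) (.leaf [5] 4 0 false)) (.node (.node (.leaf [1] 1 1 false)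 (.leaf [7, 4, 7, 5, 0, 5, 7, 2, 0, 1] 128 6 false)) (.leaf [4, 1, 7, 9, 7, 4, 6, 4, 0, 4, 6] 136 9 true))) (.node (.node (.node (.leaf [2] 1 0 false) (.leaf [3, 9, 5, 10, 11, 9, 8, 3] 43 1 false)) (.leaf [8, 6, 7, 6, 9] 21 0 false)) (.node (.leaf [3] 3 0 false) (.leaf [8, 8, 8, 8, 8] 20 0 true))))) (.node (.node (.node (.node (.node (.leaf [4, 1, 8, 2, 0, 3, 10, 6, 3, 10, 5] 121 6 true) (.leaf [7] 7 1 false)) (.leaf [9, 3, 10, 3, 7, 9, 11, 10] 43 4 true)) (.node (.node (.leaf [0, 10, 9, 8, 3, 11, 7, 0, 6, 2, 4] 119 10 true) (.leaf [10, 9, 11, 9, 10] 18 2 false)) (.leaf [6] 6 0 false))) (.node (.node (.node (.leaf [4, 4, 2, 4, 8, 6, 10, 4, 8] 82 6 true) (.leaf [0, 2, 3, 6, 9, 6, 9, 6, 3, 1, 0] 109 2 false)) (.leaf [4] 4 1 false)) (.node (.leaf [9, 10, 5, 11, 3, 0, 11, 8, 3, 2] 89 0 true) (.leaf [8] 7 0 false)))) (.node (.node (.node (.node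 (.leaf [7, 2, 4, 7, 1, 6, 4, 11] 142 0 false) (.leaf [7, 0, 1, 0, 5, 3, 11, 0] 105 1 false)) (.leaf [9, 3, 9, 4, 6] 38 0 false)) (.node (.node (.leaf [6, 0, 7, 9, 4, 8, 8, 10, 0, 2, 5] 122 9 true) (.leaf [6, 4, 8, 9, 7, 5, 9, 7, 7] 51 8 false)) (.leaf [0, 9, 3, 2, 11, 9, 3, 4, 0] 143 5 true))) (.node (.node (.node (.leaf [5, 0, 4, 10, 3, 6, 10, 3, 0, 1, 7] 121 3 false) (.leaf [9, 4, 8, 9, 8, 10, 3, 6, 5] 63 3 false)) (.leaf [3, 8, 5, 11, 6, 11, 5] 40 1 false)) (.node (.leaf [8, 1, 4, 4, 2, 4, 8, 6, 10] 82 4 true) (.leaf [11, 10, 5, 0, 4, 10, 11, 7, 0] 126 1 false))))))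
noncomputable def r14 : TC.WTr := (.node (.node (.node (.node (.node (.node (.leaf [1, 4, 0, 11, 6, 10, 8, 0, 5, 2] 134 3 false) (.leaf [10, 7, 4, 9, 10, 9, 5] 42 5 false)) (.leaf [8, 8, 8, 5, 8, 9, 7] 41 4 false)) (.node (.node (.leaf [0, 1, 0, 3, 7, 6, 8, 4, 4, 2, 9] 111 8 true) (.leaf [8, 4, 8, 3, 11, 8, 4] 57 1 false)) (.leaf [11, 10, 7, 9, 7, 9, 7] 29 5 false))) (.node (.node (.node (.leaf [0, 3, 1, 0, 1, 0, 1, 0, 1, 0] 74 9 true) (.leaf [0, 8, 1, 5, 7, 11, 6, 8, 5, 0, 6] 146 2 false)) (.leaf [7, 11, 3, 7, 5, 7, 10] 57 7 true)) (.node (.node (.leaf [9, 5, 1, 6, 1, 11, 1, 9, 11, 8, 8] 108 9 false) (.leaf [5, 9, 8, 6, 1, 8, 8, 5, 1] 86 5 false)) (.leaf [10, 11, 6, 3, 4, 3, 9, 3] 44 5 false)))) (.node (.node (.node (.node (.leaf [3, 7, 9, 3, 8, 6, 2, 11, 4, 11] 90 10 true) (.leaf [7, 1, 7, 9, 3, 7, 7, 3, 0, 6, 0] 140 9 true)) (.leaf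 [5] 4 0 false)) (.node (.node (.leaf [1] 1 1 false) (.leaf [6, 11, 9, 3, 1, 0, 9, 0, 2, 3, 9] 110 7 false)) (.leaf [7, 2, 6, 7, 9, 4, 11, 2, 4] 86 7 true))) (.node (.node (.node (.leaf [9, 3, 0, 6, 11, 3, 6, 9, 6] 81 6 true) (.leaf [8, 6, 11, 9, 8, 6, 8] 28 3 false)) (.leaf [4] 4 1 false)) (.node (.leaf [3] 3 0 false) (.leaf [11, 10, 2, 10, 1, 9, 8] 80 2 true))))) (.node (.node (.node (.node (.node (.leaf [4, 7, 1, 9, 0, 8, 5, 6, 3, 7, 6] 147 0 false) (.leaf [7] 7 1 false)) (.leaf [6, 3, 10, 7, 9, 7, 5, 9, 10] 63 7 true)) (.node (.node (.leaf [3, 6, 5, 10, 5, 3, 0, 2, 2, 11, 7] 112 5 false) (.leaf [6, 2, 7, 5, 10, 7, 5, 1, 6] 88 2 false)) (.leaf [8, 11, 6, 8, 6, 11, 9] 31 2 true))) (.node (.node (.node (.leaf [1, 10, 2, 2, 6, 5, 6, 4, 6] 85 0 false) (.leaf [9] 9 0 false)) (.leaf [4] 4 1 false)) (.node (.leaf [9, 4, 6, 5, 9] 38 2 false)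 (.leaf [8] 7 0 false)))) (.node (.node (.node (.node (.leaf [4, 10, 11, 7, 0, 8, 11, 10, 5] 126 5 false) (.leaf [11, 8, 8, 3, 9, 5, 1, 6, 1, 11, 1] 108 5 false)) (.leaf [3, 5, 10, 8, 3, 8, 6, 8, 8] 65 0 false)) (.node (.node (.leaf [0, 2, 3, 1, 0] 79 5 false) (.leaf [8, 3, 2, 3, 9, 10, 5, 11, 3, 0] 89 7 true)) (.leaf [5, 6, 11, 1, 4, 10, 4, 1, 3, 7, 5] 104 3 true))) (.node (.node (.node (.leaf [2] 1 0 false) (.leaf [0, 5, 2, 7, 2, 2, 8, 6, 10, 3] 132 4 true)) (.leaf [5, 9, 3, 9, 4] 38 5 false)) (.node (.leaf [6, 0, 6, 3, 7, 3, 4, 3, 0, 4, 2] 141 3 false) (.leaf [9, 3, 4, 7, 9, 6, 10, 3] 45 1 false))))))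
noncomputable def r15 : TC.WTr := (.node (.node (.node (.node (.node (.node (.leaf [1, 11, 7, 4, 7, 5, 0, 5, 7, 2] 128 4 false) (.leaf [10, 7, 4, 11, 10, 11, 5] 39 5 false)) (.leaf [1, 0, 10, 7, 7, 5, 9, 8, 0, 6, 3] 122 3 false)) (.node (.node (.leaf [0, 8, 9, 0, 11, 3, 4, 0] 105 4 true) (.leaf [10] 10 0 false)) (.leaf [9, 8, 11, 9, 5, 8, 11, 7, 4] 47 0 true))) (.node (.node (.node (.leaf [1, 1, 1, 1] 73 0 false) (.leaf [4, 9, 8, 10, 8, 0, 2, 11, 1, 11, 2] 117 0 true)) (.leaf [3, 4, 3, 5, 6, 4, 3] 34 2 false)) (.node (.node (.leaf [9, 0, 8, 0, 5, 3, 9, 11, 1] 143 1 false) (.leaf [11] 11 0 false)) (.leaf [9, 11, 10, 4, 9, 3, 10, 3] 43 0 true)))) (.node (.node (.node (.node (.leaf [3, 4, 4, 3, 11, 6, 0, 7, 4, 0, 4] 139 11 true) (.leaf [7, 9, 7, 6, 11, 10, 7] 29 1 false)) (.leaf [10, 2, 0, 5, 10, 6, 11, 0, 3, 10] 133 7 true)) (.node (.node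 (.leaf [1] 1 1 false) (.leaf [0, 5, 1, 3, 10, 11, 3, 7, 7, 0] 96 7 true)) (.leaf [4, 8, 8, 8, 5, 8, 9] 41 3 false))) (.node (.node (.node (.leaf [2] 1 0 false) (.leaf [7, 3, 7, 9, 7, 7, 5, 6, 4] 68 7 true)) (.leaf [7, 6, 9, 6, 8] 21 2 false)) (.node (.leaf [3] 3 0 false) (.leaf [3, 6, 5, 3, 7, 10, 9, 3, 5] 66 5 true))))) (.node (.node (.node (.node (.node (.leaf [9, 3, 2, 11, 9, 3, 4, 0, 7] 143 6 true) (.leaf [11, 9, 10, 11, 10] 18 4 false)) (.leaf [3, 5, 0, 6, 4, 10, 5, 6, 0] 87 1 false)) (.node (.node (.leaf [4, 0, 11, 0, 8, 8, 3, 11, 10, 3] 96 0 false) (.leaf [5, 11, 0, 3, 2, 6, 4, 8, 0, 4, 6] 151 2 true)) (.leaf [6] 6 0 false))) (.node (.node (.node (.leaf [10, 8, 3, 5, 10, 1, 4, 8, 3] 84 4 false) (.leaf [6, 0, 9, 5, 10, 3, 4, 11, 0, 1, 4] 116 9 true)) (.leaf [4] 4 1 false)) (.node (.leaf [9, 5, 10, 11, 9, 8, 3, 10] 43 2 false) (.leaf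 [8] 7 0 false)))) (.node (.node (.node (.node (.leaf [0, 2, 5, 6, 10, 8, 4, 4, 9, 2, 5] 102 9 true) (.leaf [2, 10, 1, 10, 11, 7, 7] 80 7 false)) (.leaf [7, 6, 3, 5, 9, 11, 3] 56 3 true)) (.node (.node (.leaf [9, 3, 5, 3, 6, 11, 10, 8] 44 4 true) (.leaf [5, 6, 2, 8, 5, 1, 8, 0] 142 0 true)) (.leaf [6, 9, 6, 8, 6] 21 3 false))) (.node (.node (.node (.leaf [8, 0, 5, 11, 6, 9, 5, 0, 3, 11] 130 8 true) (.leaf [6, 5, 6, 2, 6, 3, 7, 2, 9, 3] 94 7 false)) (.leaf [11, 6, 2, 7, 5, 10, 7, 5, 1] 88 1 false)) (.node (.leaf [1, 10, 7, 2, 4, 8, 5, 5, 3] 83 9 false) (.leaf [9, 7, 4, 7, 7, 7, 5] 41 4 true))))))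
noncomputable def tS : Tr := (.node (.leaf (nat_lit 0xfffd7ac98b201f7c31e159f660db05d978099498865483fffad198677d8df458eda164740c175854d6a55369f8afffdb9d76d9e0da061cfc73ea9e0a4bded66f50175796ffff47f1f819f6417412ada3d7dfab336f5607088d6505fffdf2b6699fc6a4924e987aa2468e9ea927c5266d05d3fffa19c1737f09cc164b1aee7aaa61374324379f2275cfffdf7696ac17390ed444aa09eea7c35e009cba7df9633fff755dfb812822f5acd665482e41736c6a6187d89b95fffde087dc1ae8781dd57727c1737d66469730e4ea9f5bfff2845fb686917ab79599a28d8161405c993f932e32ffffe1757b1e4f6745a93710da16c77dea9b05c95a78a9bfff9095a5581f19c1aff220066e999a5e3de0170ac172fffde754aa601e6910171a4be1848aced47797adf44dcffff75e1b9e6ee9a7a9902701afd01717fa20189c3a049fffcac67d35d1875298e865401717b921da884deb44ec7fff6fb1b9f05c26f26cf68819325d3a7ae62cb744ea94fffdc9f9995d6f92c5cb0755c1708c25bd0999e70677abfff88c5b2a6f510b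b7e6566e6ece29405c2427708e44afffd6fb6745bb76fc272aaa6a340694263bafda42205c3fff728032c58819ea05bd9215aba0c553c5a3f8b924e9fffd65d876d6e98ee1ea305be72fa23e6ed68c6380962ffff6b817800f394b3780432a05bdf6a53597146699857fffe1f94e594e705b98ec707a01785e23ad8fc900c66bffff47c9f341c96e0c7a4c16ea78e3f93d9a7dd6ca636bfffdaf68825be774521e281edeb5973999705ba37e8b8ffff43542d1452d6fa05b52e75235332835614f8575a5cfffe384a1e9f4705b6399588e3a5af94f859c8e31e876ffff96f2709591a9dc8e8e22e825c16d6655b205f29ae8fffe3957c7a5027d6df88770016d825e1db84c217182cffff1c9d4e8a23942d5a7646d5d2635905b64ddaf9a359fffdbba6a34fec76f98686771d9e3fd970205b4ebf612bfff866d9a48eed94a612d9bda47e86f5e7a7bd703016dfffd6a3708a51f4a9d6d105b142621c5a7c7229c196383fff60bd86e1229a1b64656c496a416caff60f1a49d645fffd71b7ac50948ea126149d1a0a61a016c82d997da233fff72ea6ff66cd9bd663a19b6bf9cd76cbdf81afe4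16cfffe5ba16fa5c64dd416b539999124ee51f9659cb790a3fff762dbee63c23b46d097ac780016baf9190e74fdeaffffdbb6859d40d67392c10f2416b90c138e6fa1a3d6943fff5348528601d921590cea9647578205acdcc6edd79efffd3e564fa00505a92154e989b612ae72859d54b4617bfff53994594ac57fd4b3816a11a271b75a63b86f127d2fffd03649883049f7e01e0bd4b2805a9b4c58a07cb51dffff0ba292b72795199edd3789f08b4c05a9b1d72b5cdefffe4628e6251d77e1dd27dca3830b7a22e118416a4acbfff6578a8c0b4509224fe5ce481e46b5f061f98eb016afffc169a7b5c2371c9a9410acd6138455bc0b511f2582ffff4c620ef05a54c324d62d458f2436727de876a102ddfffd7fd215d16c27c8169451e7d947c23ac3e06216593ffffa4f08fa8be816947e51511f26463512693c61a9917fffe88a0c354229c3191c6480169a2303a358bda740b7bfff623d4c758b42cf995986a30116e2acec1690b5c46cfffd7cd86a42de690988667e889b63ddd273961ed305a7fff05a27c999b29e2599a5b30b61a946fe2716919a4bafffe2c905a22e98c0e14899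fe2c2851a4646daa2b2908bfff4ac545205a209950d2bfc50c0526830a24f9661e29fffc7f28bf15b955e816819060038591c7b0bd9de064abfff511a93e5c5016856415ab87e58a940e02d713d6385fffc9b15ff47f827c2c9c05a147138102d4917963e5c3bfff4031ea80f153887b384dd3ad52a705a1c864ab18f7fffd2b77301a7c5c202d0354e6fa4ffc51352e81680c0ffff0dbe44e7861d336f45f890b55d0357781685a25432fffcbf19999f73658258f12d82ca2ca04610b2c52305a3fff059c37b16fd4e61371b73866d38814069ddad02655fffc2cb059c510973a9ed13884dc6d64922a4ca66b6a27fff1ea468b6595396059c64b56394de61c16f57425868fffe45f734e4fe059d3a26595cd25ff4b13a79c2cc5d6bfff3d909f2433d8a90b6c16742515a027390e95e05b36fffe01b0b7445b648119e88f41670b21004225561b5087fff6cc44a5728920548422db9cb02c994095ce059d7c1fffc16665917cb4d5a0eb3de24d8223836e0b282cb26dbfff0e6416678044ad9eb52e40ba436d0b79b500b7aa9bfffe6615a61c9d0e6c166a4d185b34c4bbe6ca246766d3fff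7225a9b0bd81667814bc099a139f56e992a0edd796fffdf636d1036c4b9d44b0f1578c5e36654910c1669efffff8bb192057447c2725e4f68df83763d6c16675c84b8fffc1650bceb4a785e924aa6c2c6727846d7280596518ffff512016553b61671c51a965eb20e221fd8ed9366eabfffdf9724841654e647bd271c94f7e205c063b2a81536ffff83e1f7c61a92ca0595ea36cf642d760e3bb884db29fffc2da0dac70805945a01100704169588410d559d8b93fff8ee60038ea08667a841655cf5a7c24b02ee0e79783fffe240836959c21c6ca12c196e505942c932059a22cb7fff0b2a30680519d960d1f7905958457829ac961066fafffc2d58b2c7b9afdc457859e0e089061630b881658b17fff88e42e18ea42cc591e24a6a50dd88b4436a0b7c165fffc458059070b0da5eca8e859f20ea224e71b9cbbad03fff0f103681efd9e105907b52a44c056d4c2cf5694367fffd383567136705909032a043664609a870b1c36523dffff6f9dd5d832c2d024781643e042e07159eca7b3691dfffc3640e104e5194116a21a065f0591a8411982c90d8ffff9c382c9a2098ec6d0c36205906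5f0d84360806c35ffffd6cb0d7835d788d5a05c55c7278381640d720ea5b7bfff798a0d67da835b6c6d99261a035a50481640e6d393fffd3880e693965efc35948b8c97646c3586130bdd0593fff02cd87a5c704ff1c1439f0e5821e623c22385f19cffffd7be72800b39141e2210d42a70a982a50e699dc90dbfff7889ca20eeda7c02cdbfa0f0e6540ea03a87d8c3bdfffdcad0ead39902cdcbc6d31eb90a902a36ca66580f03fff4c302a24385cad807c0b30a842a008953840a7c29efffd62308892460eb02271c783fa02cc2265bac21f7db7fff0e7c29d0a7029b0895cad02cc29a0e2829950cc21efffc87e4ecc21a45f82220a602970a580b30a542d39687fff83420c86fde5a00a5029334e83ba5f8822002cda84fffc29224fc2220b6d39f48bd2240a442900ef03b602cffff02ca0c60851f664b245450a3caa70b6c6630884a89fffc39b08484450b680b213bc28e0ec82dc0a344ff72a3fff18d044546340b20a317be5c9900c0ed54470f0428bfffc2230a28289219d5ba02c82880a1cbed0e242e0085bfff4be02db0b5c2d946085bf02c82120a192e10a14284fffca950f5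83c20a0c21e1c9c2820a040b20b599db0e07fff6a282200a003b30e58c964b7c27f09f80b20b6027dfffc21f087c21f09f03bc09ed38309e821f0b6c39802cbfff02c421c10b42d109e42780b81d41325e2c509dc2dafffc42c02c437e09d8275171027409cc272647427109c3fff0df42ce02c44600e6826f09b85bf09b43ad3b2026cfffc3af118021709ac0b1148426a09a42680ea43b15687fff0e7088e0b640b1099c26609943b109902630ea4262fffc2610e50260097c25e02c43aa097439d0e5425c096ffff0968259096025709582550eac0b109502530948251fffc250093c2cb093824d09300b1092c2170928397271ffff092424808482470918a7d11503a302c424509102d3fffc2430908241090023f08f823d08f021508ec0b108ebfff16502390b5823808dc23608d423408cc0b108c8231fffc180058c17f05f817d05f017b05e817905e000005dffff05d82d50b1817505d01730b4817205c400005c016ffffc16e05b416c05ac16a05a4168059c16605941640003fff000000000000000000000000000000000b302c80b1)) (.leaf (nat_lit 0xfffc252a1ce41f9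9ba6d595a679b98ee41b9be6a85ba9ffff94268269e49f8a92be4c2935d5bc0926bf49925bd4fffe5b3a386413a33e7258dc824867caafe93e26e8af6ffffa0ba0450916b14b462ae89df660a5f867c9a0ba78dfffdc8a08fe2c0a20591ea5ce3628c1a9b56d12290a5e3fff9df69e7a88e63da4d29adaf91e09106a2e408e963dfffe28e826e6fc7ab82399bfe21f9b3e387abf199c7d8bfff7f40238a4c67018b2e3b89131cd5989e86f8adaa80fffde71aa69708a156acb811dbdca9f44c78d1e8cd08e3fffa9ba1dc932e2deb7fe3ac8eec237a47235aac366f7fffd2e783f184e9f75f726135d88a4b244a08dd5ceb297fff08d5849831a9ea8aea8177806b128d669d5b2ba9b0fffd5af6ef5b21a4621f9698235ea3e1c606cfa63508d7fff8d8db2f9d524f9a3682344919bbda6ee920a07e6d6fffe39d9c069e8adf693b9e829dfa200234a459ffe8367fff97020d39f167b46146be5a4c690d8622a3008d2a19fffe34d7fc2713bada9dea14e85daa4691b7dfa14808d3fff61882335ccaa8f9cbdb39893a19e84a691b8d562f1fffd6ff5bd423356c97067b396ed4e9a2c9966e8d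099b7fff93521f795aab95a3d2466a79602c8abe2b208ce3acfffe210a0d223d7f6423282b26268242a3c957e7b1b64bfff932e79587fa392813a12a08c991da475fc369a5ebefffe5ce9b2a28a08c579c7a097a6598a6616cbe88c74a3fff72895878a39ea38af553879c655608c66fa356c3a4fffeea7ba9ef57b51edf7b25e2db05fec73a0fa58fbdbffff99966c191125af6d4c3b105fe17b7836c629869ab2fffe716963e880a9a2228b282b058b1417fad3ea9490f3fffb252924af92813a16d18d05f6caaabead23a182d44fffe67da4fe7cf8b11d0392eaa6c9c2017d776dbf796cffff73f817c908dcff9f029b97f4a6d48fe9c6488cdb66fffe5577af20d58359bfa8a2612b05f2719a5c5e9c8ebbfff84b5bc394028728cbd88105f1fcb129a861a78ab48fffe8638b91c9f6d4e666a182790a10239705f29389ad7fff97d24b28ff5dd493e1f8d8e61ebc538a64280fc17cfffe46105ea2fb80943a884eeb4758ba9da76da6e0a01bfff8791e7005e9b9d987686783b2518a799b308e6a5a8fffe86b93a67b70fb017a7b2c3c7807e9df6ea69deb2b7fff6f71fcd67e9db961c1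90b05e82db94562ec76da37efffe12a9e5235990965c279b1a5f9339c86564817a8687fff48c22b3748a5aea78c1799f0e44e894253d973665cfffe7aa781686b9b51d13a47270005e644f6f6e7b24e57fff7ae5fc2965656c86463f405e65a0158263fa7865a2fffe2c30eaa191757e0dd9955b53860e00685f01799583fff995239f9418178a20259894fa0c3955621c8eea1dffffe7bf8681e817059c0f05e20d57015a488bca4a5885ffff05dd1855ffa0459169e936b358e95b22867967e656fffe16e9f454d446367d899081774e158bca1ee9209227fff8461eb70fa1bef92227bf995a7b705de924696146f)))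
noncomputable def tJ : Tr := (.node (.leaf (nat_lit 0x8012a6527c00001210004000200009540f004c64444011000200f804e00000000000188a440048000450074000007400000011894c0001c000001c0114500010c000426cd8b486c0001200000861d00000011800000200448c000000064344010260a000004800f9a86800000000180428801d3c20c9a84001110401000227001700780422694000008401b0064c1c425c0420e00f11002e000007401a0074200008111a3a0004040000000a000004264e008000f8000904803a79f80160001b00600000a00e0000600007e00800008c18000750170060b9a7e000000000d9c3e000002c641803cfc3800044f007a1c01f3c000270c00d1b3a00dbd000000000842800068e16003de803a58020100051927209000000003387c300300088001200083800d9e0400b8036000170000dc83e003800044d008e1c000002801d1000f80331ca960000d0000702000010c00000064732000000a0001700000158e000173c641802c0000000000008e0149b04000002e44b000000bc7320000014000002a000002a000470c00000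0040a460058a1000582000050000264c0460000015060001f2800000005231400000000000a80240000000000460e00011002e212000000000002000000000004404400000000a00918000018f88709002850180004c00020380128834011100000001147802000000004830000008801d147800000a800800080200000c1914e8022001801e00000000000f8a000000200000005400000380018a3c000000060a140000000480451602180000000a120000b1800480000218d12000000000d0a0e0000f0002183002c00000384000000043002c5000000b800a0000e24008948600800202410000480090000010010c5080000000163c0002200000010c58082000003200380000002214000412e000002a600000000480185a093000000000010800e00000002e089280098a30004001400041000000000240000c00500000004100207001e00180005800c00200008200693020068000004070000080821c10000b00122e003000104010000083000000000a006880104580843400e000000c1600000140044206000060800000000038012000008414011000000010000000108c0000005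00120030016446800f0800d00001000a0000c10000008414000262c08028000001800007000211816020000000000000000710145000f00000443418012003800e00000001e0001c0040e000040000005400010017005401702000000000000180001e8000100005400034000061f000001601f0a000000002000190c0050022f80140c000001830000120000b7c00283000000000003800000b007c000000000000100030012f800000100062c00300000000500f8015221400008000001e000001af838000182800a011801a01f0000001a8020020000000000000c017c000000024002000000000002be140003f0600000000000f000038000000007e0c580001090010000001cfc00000280030010300009000100fc9032c000000800008001058000fc0010800280001c0000001f850000000060000000000002601f8000341002a01280004000006fc00000000000000000044c00016fc5807c000030008002000800012009807c0000100000003a0038000000007c000000000000100000026f800034000000000300000001e00f80000c000000800706000020000f82800600280000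00000679f00080070206000000e2c1000001f0004000804c0000000004000005f1a00000000c00000120000000f85807e002800a0000000000800e000051001f8000000000000400000003f0000009000c0000c00180001803f0000000000428000000000001f810000000060000000000800001f80300c1003210000000000000fc00000001030800000040018000fc5807a08000000000f004c000140003d0600000000001100004800201e88000000000000000e000000401e8000000000030400004003d000000000000000c00000000003d000000000002000000000000003d00000000a0000000000007a0010000001800000080000c0007a000000200000000000000000807a001000200000000000000f40000200001000000000000007a001000000000000000000f400000000000000000000000000f400078f1e3c78f1e3c7800000)) (.leaf (nat_lit 0x1601fa86ac192c08b52a548ec180604d8a03c9919490341110a01b2f1a6528f8e148284a804803a79f254cbd41b466163614003c506210a536c57994ce80803e05c2b5ab8a8e0205eae0e01a91342e3874ac042c3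e745000f1019442953ab56ad3390001a003e098ab04bc191551020044b9baf524c0455c9103704019806c0182d00b8dc526e058082a1a805eb022d4a94005000159c186d72b04701913d043001261a2e37087ac28195ac060181d005c02a465212a044408008c99ad5aa400e5a0613500019093e00aa82c016173d085000f00180006c02b56a5337120009e80b16034c6d19854d808062c832b100002a02060350e00011342df874a344213e7428058bd7aa003df853aa12b1100003164f461d385d51d007c18060898a85660ca97a9c111080123160a402419187a640002805a006914a3e3015201434060001300a158048a230000442805ebd791549e28020952a7060000000a0c2646a228d30cc5000f0c18842951274865380080172e2e9d4a4190c02422002805ab5700503e189208c00004000045a980004299443000c0005600f9b4e010250644043140004200210a200900194ca048054ae1254c0c00000500320e0148f342e1073e28021000028020395244a5210500892b1020140000000213c8c081840030034a96000100000001800008012a0003d200190002024c028020a4023003e022007802f0200f8100880202a0138180b84004e0003e007ce174c7c02d0c01600560003e3a00a0000b05807aa000000180214a012000a00800548401a7a1400000ac180009ca20468c0007a011aa)))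
noncomputable def tQ : Tr := (.node (.leaf (nat_lit 0x0)) (.leaf (nat_lit 0x0)))
noncomputable def tR : TC.WTr := (.node (.node (.node (.node r0 r1) (.node r2 r3)) (.node (.node r4 r5) (.node r6 r7))) (.node (.node (.node r8 r9) (.node r10 r11)) (.node (.node r12 r13) (.node r14 r15))))
def hl : List ℕ := [3, 4, 5, 5, 4, 6, 7, 8, 8, 7, 9, 10, 11]
def B : List (List ℕ) := [[0, 0], [1, 2], [2, 1], [3, 3], [4, 5], [5, 4], [6, 6], [7, 8], [8, 7], [9, 9], [10, 10], [11, 11], [9, 10, 9, 10, 9, 10, 9, 10], [9, 10, 9, 10, 9, 10, 9, 10], [9, 11, 9, 11, 9, 11, 9, 11], [9, 11, 9, 11, 9, 11, 9, 11], [10, 11, 10, 11, 10, 11, 10, 11], [10, 11, 10, 11, 10, 11, 10, 11], [9, 10, 11, 10, 9, 11], [9, 10, 11, 9, 11, 10], [7, 7, 7, 7, 7, 7], [6, 8, 6, 7, 6, 9], [6, 7, 7, 6, 8, 8, 6, 10], [7, 7, 6, 7, 7, 7, 6, 8, 8, 11], [6, 7, 6, 7, 6, 7, 6, 7], [6, 7, 6,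 8, 6, 7, 6, 8, 6, 7, 6, 8, 6, 7, 6, 8, 6, 7, 6, 8], [6, 8, 6, 8, 6, 8, 6, 8], [8, 10, 7, 10, 9, 10], [8, 6, 8, 10, 8, 6, 11, 9], [7, 9, 7, 9, 7, 6, 11, 10], [7, 11, 7, 11, 8, 6, 11, 9], [6, 7, 6, 11, 7, 6, 9, 11], [6, 9, 10, 7, 6, 8, 10, 9], [4, 4, 4, 4], [4, 3, 5, 3, 4, 3, 5, 6], [5, 3, 5, 3, 5, 3, 4, 3, 5, 3, 4, 4, 3, 5, 3, 8], [3, 4, 3, 4, 3, 4, 3, 4, 3, 4, 3, 4, 3, 4, 3, 4, 3, 4, 3, 4, 3, 4, 3, 4], [3, 5, 3, 5, 3, 5, 3, 5, 3, 5, 3, 5, 3, 5, 3, 5, 3, 5, 3, 5, 3, 5, 3, 5], [5, 9, 3, 9, 4, 6], [4, 11, 10, 11, 5, 8, 10, 7], [5, 6, 3, 8, 5, 11, 6, 11], [5, 8, 9, 7, 4, 8, 8, 8], [4, 9, 10, 9, 5, 8, 10, 7], [3, 10, 3, 9, 5, 10, 11, 9, 8], [3, 4, 3, 9, 3, 7, 10, 11, 6], [3, 8, 9, 3, 4, 7, 9, 6, 10], [3, 5, 11, 4, 3, 9, 10, 9, 8, 6], [5, 8, 11, 7, 4, 9, 11, 7, 9, 6], [5, 7, 3, 10, 5, 10, 6, 11, 10, 6], [5, 3, 11, 5, 3, 11, 9, 7, 7, 6], [5,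 7, 6, 8, 5, 7, 9, 6, 10, 6], [4, 8, 9, 7, 5, 9, 7, 7, 11, 6], [4, 4, 11, 3, 5, 9, 8, 10, 7, 7, 6], [4, 4, 9, 4, 3, 7, 6, 10, 8, 9, 6], [3, 11, 3, 4, 3, 6, 7, 7, 10, 8, 6], [4, 3, 7, 6, 4, 3, 7, 6], [4, 3, 6, 8, 4, 3, 11, 9], [4, 10, 8, 4, 8, 3, 11, 8], [3, 6, 3, 6, 3, 6, 3, 6], [3, 7, 3, 8, 6, 5, 11, 6, 11], [3, 8, 3, 5, 6, 3, 6, 9, 6], [3, 7, 4, 6, 7, 5, 7, 11, 8, 6], [5, 3, 4, 11, 6, 3, 10, 6, 7, 10], [3, 6, 5, 10, 9, 4, 8, 9, 8, 10], [5, 9, 6, 4, 7, 3, 11, 6, 11, 10], [5, 3, 5, 10, 8, 3, 8, 6, 8, 8], [3, 4, 6, 3, 7, 4, 3, 9, 10, 8], [3, 8, 6, 3, 4, 6, 9, 7, 10, 9, 6], [3, 8, 10, 5, 6, 4, 8, 8, 9, 8], [3, 9, 8, 6, 11, 3, 9, 8, 6, 11], [5, 7, 10, 3, 6, 3, 7, 7, 10, 8, 6], [3, 5, 10, 7, 5, 5, 9, 8, 9, 11, 7], [3, 4, 4, 11, 8, 5, 11, 10, 8, 6, 8], [1, 1, 1, 1, 1], [0, 2, 0, 2, 0, 2, 0, 2, 0, 2, 3], [0, 1, 1, 0, 1, 0, 2, 0, 2, 0, 2, 2,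 5], [0, 1, 0, 1, 0, 1, 0, 1, 0, 1, 0, 1, 0, 1, 0, 1, 0, 1, 0, 1], [0, 1, 0, 2, 0, 1, 0, 2, 0, 1, 0, 2, 0, 1, 0, 2], [0, 2, 0, 2, 0, 2, 0, 2, 0, 2, 0, 2, 0, 2, 0, 2, 0, 2, 0, 2], [0, 2, 3, 1, 0, 3], [2, 10, 1, 10, 11, 7, 7, 9], [0, 3, 9, 2, 6, 9, 6, 3, 11, 6], [1, 5, 5, 2, 7, 5, 10, 6, 7, 5], [1, 10, 7, 2, 4, 8, 5, 5, 3, 4], [1, 4, 8, 3, 1, 10, 8, 3, 5, 10], [1, 1, 10, 2, 2, 6, 5, 6, 4, 6], [1, 8, 8, 5, 1, 11, 5, 9, 8, 6], [0, 4, 3, 5, 0, 6, 4, 10, 5, 6], [1, 6, 11, 6, 2, 7, 5, 10, 7, 5], [1, 3, 7, 11, 0, 3, 11, 4, 10, 9, 3], [0, 11, 5, 11, 1, 6, 7, 3, 9, 8, 3], [0, 3, 0, 6, 2, 5, 11, 10, 6, 5, 5], [2, 0, 9, 5, 2, 5, 10, 5, 7, 10, 4], [0, 8, 9, 5, 0, 8, 5, 3, 8, 5, 3], [2, 6, 3, 7, 2, 9, 3, 10, 6, 5, 6], [1, 11, 3, 4, 1, 10, 5, 11, 3, 9, 5], [2, 4, 0, 11, 0, 8, 8, 3, 11, 10, 3], [0, 1, 6, 8, 2, 2, 5, 9, 8, 8, 8], [0, 11, 10, 9, 0, 4,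 6, 11, 10, 9, 6, 4], [1, 3, 2, 11, 2, 5, 11, 3, 6, 4, 3, 4], [0, 7, 9, 3, 1, 9, 4, 7, 9, 8, 5, 3], [2, 0, 8, 4, 1, 11, 10, 5, 11, 9, 4, 3], [1, 0, 2, 4, 1, 9, 5, 5, 7, 10, 6, 4], [1, 11, 9, 2, 0, 4, 8, 9, 8, 4, 10, 4], [2, 5, 10, 5, 2, 11, 6, 4, 8, 4, 8, 3], [0, 9, 7, 0, 1, 0, 5, 3, 11], [0, 2, 0, 10, 0, 2, 0, 8, 8, 4, 11], [1, 0, 11, 0, 2, 3, 11, 6, 11, 9, 7, 3], [1, 6, 1, 11, 1, 9, 11, 8, 8, 3, 9, 5], [1, 0, 10, 0, 2, 3, 6, 9, 6, 9, 6, 3], [1, 0, 9, 0, 2, 3, 9, 11, 6, 11, 9, 3], [0, 2, 0, 1, 9, 1, 5, 5, 7, 6, 8, 3], [0, 2, 2, 11, 7, 2, 3, 6, 5, 10, 5, 3], [0, 7, 11, 5, 1, 0, 8, 5, 3, 6, 3, 7], [0, 3, 1, 4, 3, 0, 8, 10, 8, 3, 9, 5], [0, 2, 7, 11, 5, 1, 9, 3, 11, 5, 9, 7], [0, 6, 10, 5, 2, 0, 11, 5, 3, 10, 4, 9], [1, 11, 2, 11, 1, 0, 7, 10, 7, 9, 5, 9], [1, 0, 1, 7, 2, 0, 7, 11, 6, 5, 10, 4], [0, 1, 5, 1, 6, 0, 8, 11, 3, 7, 9, 10], [2,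 11, 5, 6, 2, 0, 9, 8, 4, 6, 4, 9], [0, 1, 7, 2, 5, 0, 4, 10, 3, 6, 10, 3], [0, 6, 3, 4, 1, 0, 10, 7, 7, 5, 9, 8], [0, 2, 6, 2, 6, 1, 0, 7, 3, 4, 6, 11], [0, 2, 11, 10, 11, 1, 0, 3, 9, 10, 9, 3], [0, 2, 11, 5, 3, 0, 9, 5, 9, 6, 5, 11, 3], [0, 8, 11, 10, 5, 0, 4, 10, 11, 7], [2, 0, 2, 2, 6, 0, 11, 3, 4, 7, 4], [0, 5, 7, 2, 0, 1, 11, 7, 4, 7, 5], [0, 4, 4, 10, 8, 1, 7, 6, 7, 5, 7], [0, 7, 1, 11, 3, 0, 4, 9, 6, 11, 4], [2, 8, 0, 5, 6, 0, 4, 11, 9, 8, 3], [1, 1, 8, 1, 4, 0, 10, 3, 10, 6, 7], [0, 1, 10, 4, 10, 3, 0, 11, 6, 10, 4], [0, 5, 2, 0, 1, 4, 0, 11, 6, 10, 8], [1, 7, 3, 6, 4, 0, 11, 4, 3, 8, 8, 3], [2, 5, 8, 6, 5, 0, 5, 6, 5, 8, 9, 8], [0, 3, 10, 3, 7, 1, 11, 8, 9, 6, 3, 11], [0, 8, 2, 11, 3, 0, 7, 3, 7, 9, 10, 8], [0, 5, 0, 5, 8, 0, 6, 11, 3, 5, 5, 3], [2, 8, 9, 0, 6, 0, 3, 8, 8, 3, 9, 8], [0, 4, 2, 4, 6, 0, 6, 3, 7, 3, 4, 3], [0,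 7, 2, 4, 7, 1, 6, 4, 11], [1, 3, 9, 0, 8, 0, 5, 3, 9, 11], [1, 7, 1, 11, 6, 0, 11, 9, 8, 3, 7, 7], [0, 6, 1, 8, 0, 2, 8, 4, 3, 4, 11, 3], [0, 6, 9, 0, 8, 1, 5, 7, 11, 6, 8, 5], [0, 4, 7, 1, 9, 0, 8, 5, 6, 3, 7, 6], [2, 2, 4, 11, 4, 0, 7, 3, 7, 7, 4, 3], [0, 3, 7, 1, 7, 4, 0, 5, 11, 9, 6, 5], [0, 7, 3, 11, 7, 2, 0, 6, 3, 11, 4, 10], [0, 7, 5, 6, 1, 3, 0, 11, 4, 11, 6, 5], [0, 3, 7, 9, 8, 3, 0, 7, 4, 3, 5, 8], [0, 5, 9, 4, 6, 8, 0, 5, 3, 9, 4, 8], [2, 8, 2, 10, 3, 0, 3, 10, 3, 6, 7, 3, 5], [0, 5, 1, 5, 7, 2, 10, 6, 7, 3, 9, 6, 5], [0, 5, 0, 2, 7, 0, 9, 11, 4, 7, 9, 10, 4]]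
def subs : List (List ℕ) := [[3], [4], [5], [6], [7], [8], [9], [10], [11]]
def ex : List (List ℕ) := []
def inv (x : ℕ) : ℕ := [0, 2, 1, 3, 5, 4, 6, 8, 7, 9, 10, 11].getD x 0
noncomputable def rS : ℕ → ℕ := rowOf tS (nat_lit 7) (nat_lit 127) (nat_lit 182) (nat_lit 6129982163463555433433388108601236734474956488734408703)
noncomputable def rJ : ℕ → ℕ := rowOf tJ (nat_lit 7) (nat_lit 127) (nat_lit 98) (nat_lit 316912650057057350374175801343)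
noncomputable def C : TC.Cfg where
  S := look rS (nat_lit 14) (nat_lit 16383)
  J := look rJ (nat_lit 7) (nat_lit 127)
  Q := lookQ tQ (nat_lit 7) (nat_lit 1) (nat_lit 1)
  R := tR.get
  hl := fun x => hl.contains x
  n := (nat_lit 176)
  M := (nat_lit 176)
  top := (nat_lit 12144)
  nl := (nat_lit 12)
  need := (nat_lit 12)
  nr := (nat_lit 60)
theorem k0 : TC.chkRange C 0 3 = true := by decide +kernel
theorem rows0 : ∀ c < (0 + 3) * 64, c < C.M → TC.chkRow C c = true :=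
  TC.rows_step (TC.rows_zero C) k0
theorem main {G : Type*} [Group G] (g : ℕ → G) (hB : ∀ r ∈ B, ev g r = 1) (H : Subgroup G)
    (hH : ∀ w ∈ subs, ev g w ∈ H) :
    H.relIndex (Subgroup.closure (g '' {x | x < 12})) ≠ 0 ∧
      H.relIndex (Subgroup.closure (g '' {x | x < 12})) ≤ 176 :=
  TC.index_le C B subs ex inv hl tR.hint rfl (by decide +kernel) (by decide +kernel)
    (TC.rows_done rows0 (by decide +kernel)) g hB H hH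
end H0.TCHSp0
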